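import Cfsg.Agent.E6Large.Data.D0
import Cfsg.Agent.E6Large.Data.D1
import Cfsg.Agent.E6Large.Data.D2
import Cfsg.Agent.E6Large.Data.D3
import Cfsg.Agent.E6Large.Data.D4
import Cfsg.Agent.E6Large.Data.D5
import Cfsg.Agent.E6Large.Data.D6
import Cfsg.Agent.E6Large.Data.D7
import Cfsg.Agent.E6Large.Data.D8

/-!
# Data: derived algebras of fixed spaces
-/

set_option autoImplicit false
set_option maxRecDepth 100000

namespace Cfsg.Agent.E6Large

open Cfsg.Agent.E6Fi22

/-- Fixed spaces -/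
def pf (j : Nat) : List Nat := [pf0, pf1, pf2, pf3, pf4, pf5, pf6, pf7, pf8].getD j idM

/-- Certificates of fixed spaces -/
def qf (j : Nat) : List Nat := [qf0, qf1, qf2, qf3, qf4, qf5, qf6, qf7, qf8].getD j idM

/-- Bases -/
def bs (j : Nat) : List Nat := [bs0, bs1, bs2, bs3, bs4, bs5, bs6, bs7, bs8].getD j idM

/-- Derived spaces -/
def pd (j : Nat) : List Nat := [pd0, pd1, pd2, pd3, pd4, pd5, pd6, pd7, pd8].getD j idM

/-- Brackets -/
def rd (j : Nat) : Nat → List Nat := [rd0_, rd1_, rd2_, rd3_, rd4_, rd5_, rd6_, rd7_, rd8_].getD j fun _ => idM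

/-- Coefficients -/
def cd (j : Nat) : Nat → List Nat := [cd0_, cd1_, cd2_, cd3_, cd4_, cd5_, cd6_, cd7_, cd8_].getD j fun _ => idM

/-- The second elements -/
def gD : List Nat := [6, 7, 8, 9, 10, 11, 12, 13, 14]

/-- The moved basis vectors -/
def lD : List Nat := [1, 0, 0, 0, 0, 0, 0, 0, 0]

/-- The moving generators -/
def miD : List Nat := [1, 1, 0, 0, 0, 0, 0, 0, 0]

/-- The moved columns -/
def mcD : List Nat := [0, 0, 0, 0, 0, 0, 0, 0, 0]

end Cfsg.Agent.E6Large
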